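import Groth.Agent.OmegaFlatLib.Main
import Groth.Agent.QFDualLib.Dual

/-! Base change of the relative dualizing module of a flat quasi-finite map. -/

set_option autoImplicit false

noncomputable section

open TensorProduct

namespace Groth.Agent.OmegaFlatLib

universe u

variable {A B' A₁ B'₁ : Type u} [CommRing A] [CommRing B'] [CommRing A₁] [CommRing B'₁]
  [Algebra A B'] [Algebra A A₁] [Algebra B' B'₁] [Algebra A₁ B'₁] [Algebra A B'₁]
  [IsScalarTower A A₁ B'₁] [IsScalarTower A B' B'₁]

/-- The base-change map on the level of `B'₁`. -/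
def bcSelf (h : Algebra.IsPushout A A₁ B' B'₁) :
    B'₁ ⊗[B'] Disc.Omega A B' →ₗ[B'₁] Disc.Omega A₁ B'₁ :=
  (TensorProduct.lid B'₁ _).toLinearMap ∘ₗ QFDual.omegaBC (B₁ := B'₁) h

@[simp]
theorem bcSelf_tmul (h : Algebra.IsPushout A A₁ B' B'₁) (c : B'₁) (φ : Disc.Omega A B') :
    bcSelf h (c ⊗ₜ φ) = c • QFDual.bcFin h φ := by
  simp [bcSelf]

theorem smul_formula (h : Algebra.IsPushout A A₁ B' B'₁) {s : B'} (hs : FactorsThroughFree (A := A) s) :
    ∃ (n : ℕ) (e : Fin n → B') (φ : Fin n → Disc.Omega A B'),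
      (∀ z : B'₁ ⊗[B'] Disc.Omega A B', algebraMap B' B'₁ s • z = ∑ i,
        algebraMap A₁ B'₁ ((bcSelf h z).toLinearMap (algebraMap B' B'₁ (e i))) ⊗ₜ φ i) ∧
      ∀ g : Disc.Omega A₁ B'₁, algebraMap B' B'₁ s • g = bcSelf h (∑ i,
        algebraMap A₁ B'₁ (g.toLinearMap (algebraMap B' B'₁ (e i))) ⊗ₜ φ i) := by
  classical
  obtain ⟨n, v, w, hvw⟩ := hs
  letI := QFDualLib.omegaModule A B'
  haveI : IsScalarTower A B' (Disc.Omega A B') := IsScalarTower.of_algebraMap_smul fun _ _ => rfl
  let e : Fin n → B' := fun i => w (Finsupp.single i 1)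
  let φ : Fin n → Disc.Omega A B' := fun i => ⟨Finsupp.lapply i ∘ₗ v⟩
  have hsum : ∀ x, s * x = ∑ i, v x i • e i := fun x => by
    rw [← hvw]
    conv_lhs => rw [← Finsupp.univ_sum_single (v x), map_sum]
    refine Finset.sum_congr rfl fun i _ => ?_
    rw [← Finsupp.smul_single_one, map_smul]
  refine ⟨n, e, φ, fun z => ?_, fun g => ?_⟩
  · have h' := h
    obtain ⟨t, rfl⟩ :=
      (Algebra.IsPushout.cancelBaseChange A A₁ B' B'₁ (Disc.Omega A B')).symm.surjective z
    induction t using TensorProduct.induction_on with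
    | zero => simp
    | add x y hx hy =>
      rw [map_add, smul_add, hx, hy, map_add, ← Finset.sum_add_distrib]
      simp [TensorProduct.add_tmul]
    | tmul a ψ =>
      rw [Algebra.IsPushout.cancelBaseChange_symm_tmul, algebraMap_smul, ← TensorProduct.tmul_smul]
      have hψ : s • ψ = ∑ i, algebraMap A B' (ψ.toLinearMap (e i)) • φ i := by
        refine Disc.Omega.ext (LinearMap.ext fun x => ?_)
        have hto : ∀ (S : Finset (Fin n)) (F : Fin n → Disc.Omega A B'),
            (∑ i ∈ S, F i).toLinearMap x = ∑ i ∈ S, (F i).toLinearMap x := fun S F => by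
          induction S using Finset.induction with
          | empty => simp
          | insert i S hi ih => rw [Finset.sum_insert hi, Finset.sum_insert hi, Disc.Omega.add_toLinearMap,
              LinearMap.add_apply, ih]
        rw [hto, Disc.Omega.smul_toLinearMap_apply, hsum, map_sum]
        refine Finset.sum_congr rfl fun i _ => ?_
        rw [QFDualLib.omegaModule_smul_apply, map_smul, smul_eq_mul, mul_comm]
        rfl
      rw [hψ, TensorProduct.tmul_sum]
      refine Finset.sum_congr rfl fun i _ => ?_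
      rw [TensorProduct.tmul_smul, bcSelf_tmul, Disc.Omega.smul_toLinearMap_apply, ← Algebra.smul_def a,
        map_smul, QFDual.bcFin_apply_algebraMap, smul_eq_mul, map_mul (algebraMap A₁ B'₁),
        ← IsScalarTower.algebraMap_apply, IsScalarTower.algebraMap_apply A B' B'₁, algebraMap_smul,
        TensorProduct.smul_tmul', Algebra.smul_def, mul_comm, IsScalarTower.algebraMap_apply A B' B'₁]
  · refine Disc.Omega.ext ?_
    refine h.out.algHom_ext _ _ fun x => ?_
    have hto : ∀ (S : Finset (Fin n)) (F : Fin n → Disc.Omega A₁ B'₁) (y : B'₁),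
        (∑ i ∈ S, F i).toLinearMap y = ∑ i ∈ S, (F i).toLinearMap y := fun S F y => by
      induction S using Finset.induction with
      | empty => simp
      | insert i S hi ih => rw [Finset.sum_insert hi, Finset.sum_insert hi, Disc.Omega.add_toLinearMap,
          LinearMap.add_apply, ih]
    simp only [IsScalarTower.coe_toAlgHom', AlgHom.toLinearMap_apply, map_sum, bcSelf_tmul,
      Disc.Omega.smul_toLinearMap_apply, hto]
    rw [← map_mul (algebraMap B' B'₁), hsum, map_sum, map_sum]
    refine Finset.sum_congr rfl fun i _ => ?_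
    rw [← Algebra.smul_def (g.toLinearMap _) (algebraMap B' B'₁ x)]
    have hj : algebraMap B' B'₁ (v x i • e i) = algebraMap A A₁ (v x i) • algebraMap B' B'₁ (e i) := by
      rw [Algebra.smul_def, map_mul, ← IsScalarTower.algebraMap_apply, IsScalarTower.algebraMap_apply A A₁ B'₁,
        ← Algebra.smul_def]
    rw [hj, map_smul, map_smul, QFDual.bcFin_apply_algebraMap, smul_eq_mul, smul_eq_mul, mul_comm]
    rfl

theorem omegaBC_bijective_of_flat_source {B B₁ : Type u} [CommRing B] [CommRing B₁] [IsNoetherianRing A]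
    [Algebra A B] [Algebra B' B] [IsScalarTower A B' B] [Module.Flat A B] [Algebra B B₁]
    [Algebra B'₁ B₁] [Algebra B' B₁] [IsScalarTower B' B'₁ B₁] [IsScalarTower B' B B₁]
    (hf : QFDual.IsQFFactor A B' B) (h : Algebra.IsPushout A A₁ B' B'₁) :
    Function.Bijective (QFDual.omegaBC (B₁ := B₁) h) := by
  classical
  haveI := hf.finite
  let ψ := bcSelf h
  -- a quasi-inverse up to `s ^ 2`
  have hθ : ∀ s, FactorsThroughFree (A := A) s →
      ∃ θ : Disc.Omega A₁ B'₁ →ₗ[B'₁] B'₁ ⊗[B'] Disc.Omega A B',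
        (∀ z, θ (ψ z) = (algebraMap B' B'₁ s * algebraMap B' B'₁ s) • z) ∧
        ∀ g, ψ (θ g) = (algebraMap B' B'₁ s * algebraMap B' B'₁ s) • g := by
    intro s hs
    obtain ⟨n, e, φ, h1, h2⟩ := smul_formula h hs
    set σ := algebraMap B' B'₁ s
    have hk : ∀ x y, ψ x = ψ y → σ • x = σ • y := fun x y hxy => by rw [h1, h1]; simp only [ψ] at hxy; rw [hxy]
    let lift : Disc.Omega A₁ B'₁ → B'₁ ⊗[B'] Disc.Omega A B' := fun g =>
      ∑ i, algebraMap A₁ B'₁ (g.toLinearMap (algebraMap B' B'₁ (e i))) ⊗ₜ φ i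
    have hl : ∀ g, ψ (lift g) = σ • g := fun g => (h2 g).symm
    refine ⟨{ toFun := fun g => σ • lift g
              map_add' := fun g g' => by
                rw [← smul_add]
                refine hk _ _ ?_
                rw [map_add, hl, hl, hl, smul_add]
              map_smul' := fun c g => by
                rw [RingHom.id_apply, smul_comm c σ]
                refine hk _ _ ?_
                rw [map_smul, hl, hl, smul_comm] }, fun z => ?_, fun g => ?_⟩
    · show σ • lift (ψ z) = _
      rw [mul_smul]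
      refine hk _ _ ?_
      rw [hl, map_smul]
    · show ψ (σ • lift g) = _
      rw [map_smul, hl, mul_smul]
  -- the general map is the tensor product
  let E : B₁ ⊗[B'] Disc.Omega A B' ≃ₗ[B₁] B₁ ⊗[B'₁] (B'₁ ⊗[B'] Disc.Omega A B') :=
    (AlgebraTensorModule.cancelBaseChange B' B'₁ B₁ B₁ (Disc.Omega A B')).symm
  have hfac : ∀ t, QFDual.omegaBC (B₁ := B₁) h t = AlgebraTensorModule.lTensor B₁ B₁ ψ (E t) := by
    intro t
    induction t using TensorProduct.induction_on with
    | zero => simp
    | add x y hx hy => rw [map_add, map_add, map_add, hx, hy]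
    | tmul b φ => simp [E, ψ]
  let T := {c : B₁ | ∃ s, FactorsThroughFree (A := A) s ∧
    algebraMap B' B₁ s * algebraMap B' B₁ s = c}
  have hT : Ideal.span T = ⊤ := by
    by_contra hne
    obtain ⟨Q, hQ, hle⟩ := Ideal.exists_le_maximal _ hne
    obtain ⟨s, hsQ, hs⟩ := exists_factorsThroughFree (A := A) hf.isOpenImmersion (Q.comap (algebraMap B B₁))
    have h0 : algebraMap B' B₁ s * algebraMap B' B₁ s ∈ Q := hle (Ideal.subset_span ⟨s, hs, rfl⟩)
    exact hsQ (by
      rw [Ideal.mem_comap, ← IsScalarTower.algebraMap_apply]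
      exact (hQ.isPrime.mem_or_mem h0).elim id id)
  set Ψ := AlgebraTensorModule.lTensor B₁ B₁ ψ
  have hkill : ∀ c ∈ Ideal.span T, (∀ x, Ψ x = 0 → c • x = 0) ∧ ∀ y, c • y ∈ LinearMap.range Ψ := by
    intro c hc
    induction hc using Submodule.span_induction with
    | mem c hc =>
      obtain ⟨s, hs, rfl⟩ := hc
      obtain ⟨θ, h1, h2⟩ := hθ s hs
      have e1 : ∀ x, AlgebraTensorModule.lTensor B₁ B₁ θ (Ψ x) =
          (algebraMap B' B₁ s * algebraMap B' B₁ s) • x := fun x => by
        induction x using TensorProduct.induction_on with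
        | zero => simp
        | add x y hx hy => rw [map_add, map_add, hx, hy, smul_add]
        | tmul b m =>
          simp only [Ψ, AlgebraTensorModule.lTensor_tmul, h1]
          rw [TensorProduct.tmul_smul, ← algebraMap_smul B₁, map_mul, ← IsScalarTower.algebraMap_apply]
      have e2 : ∀ y, Ψ (AlgebraTensorModule.lTensor B₁ B₁ θ y) =
          (algebraMap B' B₁ s * algebraMap B' B₁ s) • y := fun y => by
        induction y using TensorProduct.induction_on with
        | zero => simp
        | add x y hx hy => rw [map_add, map_add, hx, hy, smul_add]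
        | tmul b m =>
          simp only [Ψ, AlgebraTensorModule.lTensor_tmul, h2]
          rw [TensorProduct.tmul_smul, ← algebraMap_smul B₁, map_mul, ← IsScalarTower.algebraMap_apply]
      exact ⟨fun x hx => by rw [← e1, hx, map_zero], fun y => ⟨_, e2 y⟩⟩
    | zero => exact ⟨fun x _ => zero_smul _ x, fun y => ⟨0, by simp⟩⟩
    | add a b _ _ ha hb =>
      exact ⟨fun x hx => by rw [add_smul, ha.1 x hx, hb.1 x hx, add_zero],
        fun y => by rw [add_smul]; exact add_mem (ha.2 y) (hb.2 y)⟩
    | smul r a _ ha =>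
      exact ⟨fun x hx => by rw [smul_assoc, ha.1 x hx, smul_zero],
        fun y => by rw [smul_assoc]; exact Submodule.smul_mem _ _ (ha.2 y)⟩
  have h1 := hkill 1 (hT ▸ Submodule.mem_top)
  have hb : Function.Bijective Ψ :=
    ⟨(injective_iff_map_eq_zero _).2 fun x hx => by simpa using h1.1 x hx,
      fun y => by simpa using h1.2 y⟩
  rw [show ⇑(QFDual.omegaBC (B₁ := B₁) h) = Ψ ∘ E from funext hfac]
  exact hb.comp E.bijective

end Groth.Agent.OmegaFlatLib
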