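import Groth.Agent.OmegaFlatLib.BC
import Groth.Agent.QFDualLib.Different
import Groth.Agent.S2217

/-! Invertibility of a flat module is a fibrewise condition; application to the dualizing module. -/

set_option autoImplicit false

noncomputable section

open TensorProduct

namespace Groth.Agent.OmegaFlatLib

universe u

variable {A B : Type u} [CommRing A] [CommRing B] [Algebra A B]

theorem exists_mul_mem_of_tmul_eq_zero (p : Ideal A) [p.IsPrime] {b : B}
    (h : (1 : p.ResidueField) ⊗ₜ[A] b = 0) :
    ∃ a ∉ p, algebraMap A B a * b ∈ p.map (algebraMap A B) := by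
  let I := p.map (algebraMap A B)
  let T := Localization (Algebra.algebraMapSubmonoid (B ⧸ I) p.primeCompl)
  let f : A →+* T := algebraMap A T
  have hf1 : p ≤ RingHom.ker f := fun a ha => by
    rw [RingHom.mem_ker]
    show algebraMap A T a = 0
    rw [IsScalarTower.algebraMap_apply A (B ⧸ I) T, ← Ideal.Quotient.mk_algebraMap,
      Ideal.Quotient.eq_zero_iff_mem.2 (Ideal.mem_map_of_mem _ ha), map_zero]
  have hf2 : p.primeCompl ≤ (IsUnit.submonoid T).comap f := fun a ha => by
    show IsUnit (algebraMap A T a)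
    rw [IsScalarTower.algebraMap_apply A (B ⧸ I) T]
    exact IsLocalization.map_units T (⟨_, a, ha, rfl⟩ : Algebra.algebraMapSubmonoid (B ⧸ I) p.primeCompl)
  let φ : p.ResidueField →ₐ[A] T :=
    { Ideal.ResidueField.lift p f hf1 hf2 with commutes' := fun a => by simp [f] }
  let g : B →ₐ[A] T := (IsScalarTower.toAlgHom A (B ⧸ I) T).comp (Ideal.Quotient.mkₐ A I)
  have h1 := congrArg (Algebra.TensorProduct.lift φ g fun _ _ => Commute.all _ _) h
  rw [Algebra.TensorProduct.lift_tmul, map_one, one_mul, map_zero] at h1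
  obtain ⟨⟨_, a, ha, rfl⟩, hm⟩ := (IsLocalization.map_eq_zero_iff
    (Algebra.algebraMapSubmonoid (B ⧸ I) p.primeCompl) T (Ideal.Quotient.mk I b)).1 h1
  refine ⟨a, ha, ?_⟩
  rw [← Ideal.Quotient.eq_zero_iff_mem, map_mul]
  exact hm

/-- A flat module whose fibres are invertible is invertible. -/
theorem invertible_of_fibres [IsNoetherianRing B] (M : Type u) [AddCommGroup M] [Module B M] [Module A M]
    [IsScalarTower A B M] [Module.Finite B M] [Module.Flat A M]
    (h : ∀ (p : Ideal A) [p.IsPrime],
      letI : Algebra B (p.ResidueField ⊗[A] B) := Algebra.TensorProduct.rightAlgebra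
      Module.Invertible (p.ResidueField ⊗[A] B) ((p.ResidueField ⊗[A] B) ⊗[B] M)) :
    Module.Invertible B M := by
  classical
  refine S2217.invertible_of_cover fun Q hQ => ?_
  let p := Q.comap (algebraMap A B)
  haveI : p.IsPrime := Ideal.comap_isPrime _ Q
  letI : Algebra B (p.ResidueField ⊗[A] B) := Algebra.TensorProduct.rightAlgebra
  set F := p.ResidueField ⊗[A] B
  haveI hF : Module.Invertible F (F ⊗[B] M) := h p
  -- the residue field at `Q`
  let k := Q.ResidueField
  let π₀ : p.ResidueField →ₐ[A] k :=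
    { Ideal.ResidueField.lift p (algebraMap A k) (fun a ha => by
        rw [RingHom.mem_ker, IsScalarTower.algebraMap_apply A B k, Ideal.algebraMap_residueField_eq_zero]
        exact ha) (fun a ha => by
        show IsUnit (algebraMap A k a)
        rw [isUnit_iff_ne_zero, IsScalarTower.algebraMap_apply A B k, Ne, Ideal.algebraMap_residueField_eq_zero]
        exact ha) with commutes' := fun a => by simp }
  let π : F →ₐ[A] k :=
    Algebra.TensorProduct.lift π₀ (IsScalarTower.toAlgHom A B k) fun _ _ => Commute.all _ _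
  letI : Algebra F k := π.toRingHom.toAlgebra
  haveI : IsScalarTower B F k := IsScalarTower.of_algebraMap_eq fun b => by
    show algebraMap B k b = π ((1 : p.ResidueField) ⊗ₜ[A] b)
    rw [Algebra.TensorProduct.lift_tmul, map_one, one_mul]
    rfl
  haveI : Module.Invertible k (k ⊗[B] M) :=
    Module.Invertible.congr (AlgebraTensorModule.cancelBaseChange B F k k M)
  have h1dim : Module.finrank k (k ⊗[B] M) = 1 := Module.Invertible.finrank_eq_one k (k ⊗[B] M)
  -- a generator
  obtain ⟨t, ht⟩ : ∃ t : M, (1 : k) ⊗ₜ[B] t ≠ 0 := by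
    by_contra! hall
    have : Subsingleton (k ⊗[B] M) := subsingleton_of_forall_eq 0 fun z => by
      induction z using TensorProduct.induction_on with
      | zero => rfl
      | add x y hx hy => rw [hx, hy, add_zero]
      | tmul c m =>
        have h2 : c ⊗ₜ[B] m = c • ((1 : k) ⊗ₜ[B] m) := by
          rw [TensorProduct.smul_tmul', smul_eq_mul, mul_one]
        rw [h2, hall, smul_zero]
    rw [Module.finrank_zero_of_subsingleton] at h1dim
    exact one_ne_zero h1dim.symm
  obtain ⟨s, hs, hsM⟩ : ∃ s, s ∉ Q ∧ ∀ l : M, ∃ c : B, s • l = c • t := by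
    let N := M ⧸ (B ∙ t)
    have hN : Subsingleton (k ⊗[B] N) := subsingleton_of_forall_eq 0 fun z => by
      induction z using TensorProduct.induction_on with
      | zero => rfl
      | add x y hx hy => rw [hx, hy, add_zero]
      | tmul c n =>
        obtain ⟨m, rfl⟩ := (B ∙ t).mkQ_surjective n
        obtain ⟨r, hr⟩ := (finrank_eq_one_iff_of_nonzero' _ ht).1 h1dim (c ⊗ₜ[B] m)
        have h2 := congrArg (AlgebraTensorModule.lTensor k k (B ∙ t).mkQ) hr
        rw [map_smul, AlgebraTensorModule.lTensor_tmul, AlgebraTensorModule.lTensor_tmul,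
          show (B ∙ t).mkQ t = 0 from (Submodule.Quotient.mk_eq_zero _).2 (Submodule.mem_span_singleton_self t),
          TensorProduct.tmul_zero, smul_zero] at h2
        exact h2.symm
    have hsupp : (⟨Q, hQ.isPrime⟩ : PrimeSpectrum B) ∉ Module.support B N := fun hmem => by
      exact not_nontrivial_iff_subsingleton.2 hN
        ((Module.mem_support_iff_nontrivial_residueField_tensorProduct (M := N) ⟨Q, hQ.isPrime⟩).1 hmem)
    rw [Module.support_eq_zeroLocus, PrimeSpectrum.mem_zeroLocus] at hsupp
    obtain ⟨s, hs, hsQ⟩ := Set.not_subset.1 hsupp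
    refine ⟨s, hsQ, fun l => ?_⟩
    obtain ⟨c, hc⟩ := Submodule.mem_span_singleton.1 ((Submodule.Quotient.mk_eq_zero _).1
      (show (B ∙ t).mkQ (s • l) = 0 by rw [map_smul]; exact Module.mem_annihilator.1 hs _))
    exact ⟨c, hc.symm⟩
  -- the annihilator of `t` vanishes at `Q`
  let K : Ideal B := Ideal.torsionOf B M t
  have hKp : ∀ b ∈ K, ∃ u, u ∉ Q ∧ ∃ z ∈ p.map (algebraMap A B) * K, u * b = z := by
    intro b hb
    have hb' : b • t = 0 := hb
    have hkill : ∀ z : F ⊗[B] M, algebraMap B F (s * b) • z = 0 := fun z => by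
      induction z using TensorProduct.induction_on with
      | zero => rw [smul_zero]
      | add x y hx hy => rw [smul_add, hx, hy, add_zero]
      | tmul c m =>
        obtain ⟨d, hd⟩ := hsM m
        rw [algebraMap_smul, ← TensorProduct.tmul_smul, mul_comm, mul_smul, hd, smul_comm, hb', smul_zero,
          TensorProduct.tmul_zero]
    have h0 : algebraMap B F (s * b) = 0 :=
      FaithfulSMul.eq_of_smul_eq_smul fun z : F ⊗[B] M => (hkill z).trans (zero_smul F z).symm
    obtain ⟨a, ha, hab⟩ := exists_mul_mem_of_tmul_eq_zero p h0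
    obtain ⟨n, x, f, hf, hsum⟩ : ∃ (n : ℕ) (x : Fin n → B) (f : Fin n → A), (∀ i, f i ∈ p) ∧
        algebraMap A B a * (s * b) = ∑ i, algebraMap A B (f i) * x i := by
      generalize algebraMap A B a * (s * b) = z at hab ⊢
      induction hab using Submodule.span_induction with
      | mem y hy =>
        obtain ⟨c, hc, rfl⟩ := hy
        exact ⟨1, fun _ => 1, fun _ => c, fun _ => hc, by simp⟩
      | zero => exact ⟨0, Fin.elim0, Fin.elim0, fun i => i.elim0, by simp⟩
      | add y z _ _ hy hz =>
        obtain ⟨n, x, f, hf, e⟩ := hy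
        obtain ⟨n', x', f', hf', e'⟩ := hz
        refine ⟨n + n', Fin.append x x', Fin.append f f', fun i => ?_, ?_⟩
        · refine Fin.addCases (fun i => ?_) (fun i => ?_) i <;> simp [hf, hf']
        · rw [Fin.sum_univ_add, e, e']; simp
      | smul c y _ hy =>
        obtain ⟨n, x, f, hf, e⟩ := hy
        refine ⟨n, fun i => c * x i, f, hf, ?_⟩
        rw [e, smul_eq_mul, Finset.mul_sum]
        exact Finset.sum_congr rfl fun i _ => mul_left_comm _ _ _
    have hrel : ∑ i, f i • (x i • t) = 0 := by
      have h3 : (algebraMap A B a * (s * b)) • t = 0 := by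
        rw [mul_smul, mul_smul, hb', smul_zero, smul_zero]
      rw [hsum, Finset.sum_smul] at h3
      rw [← h3]
      exact Finset.sum_congr rfl fun i _ => by rw [mul_smul, algebraMap_smul]
    obtain ⟨m, α, y, hy, hα⟩ := Module.Flat.isTrivialRelation_of_sum_smul_eq_zero hrel
    choose c hc using fun j => hsM (y j)
    refine ⟨algebraMap A B a * s * s, fun hmem => ?_,
      ∑ i, algebraMap A B (f i) * (s * x i - ∑ j, algebraMap A B (α i j) * c j), sum_mem fun i _ => ?_, ?_⟩
    · rcases hQ.isPrime.mem_or_mem hmem with h4 | h4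
      · rcases hQ.isPrime.mem_or_mem h4 with h5 | h5
        · exact ha h5
        · exact hs h5
      · exact hs h4
    · refine Ideal.mul_mem_mul (Ideal.mem_map_of_mem _ (hf i)) ?_
      rw [Ideal.mem_torsionOf_iff, sub_smul, Finset.sum_smul, mul_smul, show x i • t = ∑ j, α i j • y j from hy i,
        Finset.smul_sum, ← Finset.sum_sub_distrib]
      refine Finset.sum_eq_zero fun j _ => ?_
      rw [smul_comm, hc, mul_smul, algebraMap_smul, sub_self]
    · have h5 : ∑ i, algebraMap A B (f i) * ∑ j, algebraMap A B (α i j) * c j = 0 := by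
        simp only [Finset.mul_sum, ← mul_assoc, ← map_mul]
        rw [Finset.sum_comm]
        exact Finset.sum_eq_zero fun j _ => by rw [← Finset.sum_mul, ← map_sum, hα j, map_zero, zero_mul]
      rw [show algebraMap A B a * s * s * b = s * (algebraMap A B a * (s * b)) by ring, hsum, Finset.mul_sum]
      simp only [mul_sub, Finset.sum_sub_distrib, h5, sub_zero]
      exact Finset.sum_congr rfl fun i _ => mul_left_comm _ _ _
  let R := Localization.AtPrime Q
  have hK0 : K.map (algebraMap B R) = ⊥ := by
    refine Submodule.eq_bot_of_le_smul_of_le_jacobson_bot (IsLocalRing.maximalIdeal R) _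
      (IsNoetherian.noetherian _) ?_ (IsLocalRing.maximalIdeal_le_jacobson _)
    refine Ideal.map_le_iff_le_comap.2 fun b hb => ?_
    obtain ⟨u, hu, z, hz, hzu⟩ := hKp b hb
    have hz' : algebraMap B R z ∈ IsLocalRing.maximalIdeal R * K.map (algebraMap B R) := by
      have h6 := Ideal.mem_map_of_mem (algebraMap B R) hz
      rw [Ideal.map_mul] at h6
      refine Ideal.mul_mono_left ?_ h6
      rw [← Localization.AtPrime.map_eq_maximalIdeal]
      exact Ideal.map_mono Ideal.map_comap_le
    rw [Ideal.mem_comap]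
    obtain ⟨w, hw⟩ := (IsLocalization.map_units R (⟨u, hu⟩ : Q.primeCompl))
    have h7 := Ideal.mul_mem_left _ (↑w⁻¹ : R) hz'
    rw [smul_eq_mul]
    rwa [← hzu, map_mul, show algebraMap B R u = w from hw.symm, Units.inv_mul_cancel_left] at h7
  obtain ⟨S, hS⟩ := (IsNoetherian.noetherian K : Submodule.FG K)
  choose v hv using fun b : S => (IsLocalization.map_eq_zero_iff Q.primeCompl R (b : B)).1 (by
    have h8 := Ideal.mem_map_of_mem (algebraMap B R) (hS ▸ Submodule.subset_span b.2 : (b : B) ∈ K)
    rwa [hK0, Ideal.mem_bot] at h8)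
  refine ⟨t, s * ∏ b : S, (v b : B), fun hmem => ?_, fun l => ?_, fun b hb => ?_⟩
  · rcases hQ.isPrime.mem_or_mem hmem with h9 | h9
    · exact hs h9
    · obtain ⟨b, -, hbQ⟩ := hQ.isPrime.prod_mem_iff.1 h9
      exact (v b).2 hbQ
  · obtain ⟨c, hc⟩ := hsM l
    exact ⟨(∏ b : S, (v b : B)) * c, by rw [mul_comm s, mul_smul, hc, ← mul_smul]⟩
  · have hbK : b ∈ K := hb
    rw [← hS] at hbK
    rw [mul_assoc]
    suffices (∏ b : S, (v b : B)) * b = 0 by rw [this, mul_zero]
    clear hb
    induction hbK using Submodule.span_induction with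
    | mem w hw =>
      rw [← Finset.prod_erase_mul _ _ (Finset.mem_univ (⟨w, hw⟩ : S)), mul_assoc, hv ⟨w, hw⟩, mul_zero]
    | zero => rw [mul_zero]
    | add x y _ _ hx hy => rw [mul_add, hx, hy, add_zero]
    | smul r x _ hx => rw [smul_eq_mul, mul_left_comm, hx, mul_zero]

section Omega

variable {B' : Type u} [CommRing B'] [Algebra A B'] [Algebra B' B] [IsScalarTower A B' B]

theorem invertible_omega_iff [IsNoetherianRing A] [IsNoetherianRing B] [Module.Flat A B]
    (hf : QFDual.IsQFFactor A B' B) :
    Module.Invertible B (QFDual.omega A B' B) ↔ ∀ (p : Ideal A) [p.IsPrime] (B'₁ B₁ : Type u) [CommRing B'₁]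
      [CommRing B₁] [Algebra B' B'₁] [Algebra p.ResidueField B'₁] [Algebra A B'₁]
      [IsScalarTower A p.ResidueField B'₁] [IsScalarTower A B' B'₁] [Algebra B B₁] [Algebra p.ResidueField B₁]
      [Algebra A B₁] [IsScalarTower A p.ResidueField B₁] [IsScalarTower A B B₁] [Algebra B'₁ B₁] [Algebra B' B₁]
      [IsScalarTower B' B'₁ B₁] [IsScalarTower B' B B₁] [IsScalarTower p.ResidueField B'₁ B₁],
      Algebra.IsPushout A p.ResidueField B' B'₁ → Algebra.IsPushout A p.ResidueField B B₁ →
      Module.Invertible B₁ (QFDual.omega p.ResidueField B'₁ B₁) := by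
  haveI := hf.finite
  constructor
  · intro hI p _ B'₁ B₁ _ _ _ _ _ _ _ _ _ _ _ _ _ _ _ _ _ h _
    haveI := hI
    haveI : Module.Invertible B₁ (QFDual.omega A B' B₁) :=
      Module.Invertible.congr (AlgebraTensorModule.cancelBaseChange B' B B₁ B₁ (Disc.Omega A B'))
    exact Module.Invertible.congr
      (LinearEquiv.ofBijective _ (omegaBC_bijective_of_flat_source (B₁ := B₁) hf h))
  · intro H
    haveI : Module.Finite B' (Disc.Omega A B') := by
      letI := QFDualLib.omegaModule A B'
      haveI : IsScalarTower A B' (Disc.Omega A B') := IsScalarTower.of_algebraMap_smul fun _ _ => rfl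
      let e₀ : Module.Dual A B' ≃ₗ[A] Disc.Omega A B' :=
        { toFun := Disc.Omega.mk
          invFun := Disc.Omega.toLinearMap
          map_add' := fun _ _ => rfl
          map_smul' := fun r φ => Disc.Omega.ext
            (LinearMap.ext fun x => (QFDualLib.omegaModule_smul_apply r ⟨φ⟩ x).symm)
          left_inv := fun _ => rfl
          right_inv := fun _ => rfl }
      haveI : Module.Finite A (Disc.Omega A B') := Module.Finite.equiv e₀
      exact Module.Finite.of_restrictScalars_finite A B' _
    haveI : Module.Flat A (QFDual.omega A B' B) := flat_omega hf.isOpenImmersion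
    refine invertible_of_fibres (A := A) (QFDual.omega A B' B) fun p _ => ?_
    letI algB : Algebra B (p.ResidueField ⊗[A] B) := Algebra.TensorProduct.rightAlgebra
    letI algB' : Algebra B' (p.ResidueField ⊗[A] B') := Algebra.TensorProduct.rightAlgebra
    let m : p.ResidueField ⊗[A] B' →ₐ[p.ResidueField] p.ResidueField ⊗[A] B :=
      Algebra.TensorProduct.map (AlgHom.id p.ResidueField p.ResidueField) (IsScalarTower.toAlgHom A B' B)
    letI : Algebra (p.ResidueField ⊗[A] B') (p.ResidueField ⊗[A] B) := m.toRingHom.toAlgebra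
    letI : Algebra B' (p.ResidueField ⊗[A] B) :=
      ((algebraMap B (p.ResidueField ⊗[A] B)).comp (algebraMap B' B)).toAlgebra
    haveI : IsScalarTower B' B (p.ResidueField ⊗[A] B) := IsScalarTower.of_algebraMap_eq fun _ => rfl
    haveI : IsScalarTower B' (p.ResidueField ⊗[A] B') (p.ResidueField ⊗[A] B) :=
      IsScalarTower.of_algebraMap_eq fun b => by
        show (1 : p.ResidueField) ⊗ₜ[A] algebraMap B' B b = m ((1 : p.ResidueField) ⊗ₜ[A] b)
        simp [m]
    haveI : IsScalarTower p.ResidueField (p.ResidueField ⊗[A] B') (p.ResidueField ⊗[A] B) :=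
      IsScalarTower.of_algebraMap_eq fun c => (m.commutes c).symm
    have h' : Algebra.IsPushout A p.ResidueField B' (p.ResidueField ⊗[A] B') := TensorProduct.isPushout
    have hB : Algebra.IsPushout A p.ResidueField B (p.ResidueField ⊗[A] B) := TensorProduct.isPushout
    haveI := H p (p.ResidueField ⊗[A] B') (p.ResidueField ⊗[A] B) h' hB
    haveI : Module.Invertible (p.ResidueField ⊗[A] B) (QFDual.omega A B' (p.ResidueField ⊗[A] B)) :=
      Module.Invertible.congr (LinearEquiv.ofBijective _
        (omegaBC_bijective_of_flat_source (B₁ := p.ResidueField ⊗[A] B) hf h')).symm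
    exact Module.Invertible.congr
      (AlgebraTensorModule.cancelBaseChange B' B (p.ResidueField ⊗[A] B) (p.ResidueField ⊗[A] B)
        (Disc.Omega A B')).symm

end Omega

end Groth.Agent.OmegaFlatLib
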