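import Mathlib
import Groth.Agent.QFDualLib.Ass
import Groth.Prelude.Def_Disc

/-! The relative dualizing module of a flat quasi-finite map is flat: if `B` is flat over `A`,
multiplication by enough elements of `B'` factors through finite free `A`-modules. -/

set_option autoImplicit false

noncomputable section

open TensorProduct AlgebraicGeometry CategoryTheory

namespace Groth.Agent.OmegaFlatLib

universe u

variable {A B B' : Type u} [CommRing A] [CommRing B] [CommRing B'] [Algebra A B] [Algebra A B']
  [Algebra B' B] [IsScalarTower A B' B]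

/-- The elements whose multiplication on `B'` factors through a finite free `A`-module. -/
def FactorsThroughFree (s : B') : Prop :=
  ∃ (n : ℕ) (v : B' →ₗ[A] (Fin n →₀ A)) (w : (Fin n →₀ A) →ₗ[A] B'), ∀ x, w (v x) = s * x

theorem exists_factorsThroughFree [IsNoetherianRing A] [Module.Finite A B'] [Module.Flat A B]
    (hopen : IsOpenImmersion (Spec.map (CommRingCat.ofHom (algebraMap B' B))))
    (Q : Ideal B) [Q.IsPrime] :
    ∃ s : B', algebraMap B' B s ∉ Q ∧ FactorsThroughFree (A := A) s := by
  classical
  obtain ⟨f, hf, hbij⟩ := QFDualLib.exists_away_bijective hopen Q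
  let Bf' := Localization.Away f
  let Bf := Localization.Away (algebraMap B' B f)
  have hμ : ∀ x : B', Localization.awayMap (algebraMap B' B) f (algebraMap B' Bf' x) =
      algebraMap B Bf (algebraMap B' B x) := fun x => by
    simp [Bf, Bf', Localization.awayMap, IsLocalization.Away.map]
  have hsurj : ∀ b : B, ∃ (k : ℕ) (b' : B'), algebraMap B' B f ^ k * b = algebraMap B' B b' := by
    intro b
    obtain ⟨y, hy⟩ := hbij.2 (algebraMap B Bf b)
    obtain ⟨b', ⟨_, k, rfl⟩, rfl⟩ := IsLocalization.exists_mk'_eq (Submonoid.powers f) y
    have h1 : algebraMap B Bf (algebraMap B' B (f ^ k) * b) = algebraMap B Bf (algebraMap B' B b') := by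
      rw [map_mul, ← hy, ← hμ, ← hμ, ← map_mul]
      congr 1
      exact IsLocalization.mk'_spec' Bf' b' (⟨f ^ k, k, rfl⟩ : Submonoid.powers f)
    obtain ⟨⟨_, l, rfl⟩, hl⟩ := (IsLocalization.eq_iff_exists (Submonoid.powers (algebraMap B' B f)) Bf).1 h1
    refine ⟨l + k, f ^ l * b', ?_⟩
    rw [map_mul, map_pow, pow_add, mul_assoc]
    simpa only [map_pow] using hl
  have hker : ∀ x : B', algebraMap B' B x = 0 → ∃ j : ℕ, f ^ j * x = 0 := by
    intro x hx
    have h1 : algebraMap B' Bf' x = 0 := hbij.1 (by rw [hμ, hx, map_zero, map_zero])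
    obtain ⟨⟨_, j, rfl⟩, hj⟩ := (IsLocalization.map_eq_zero_iff (Submonoid.powers f) Bf' x).1 h1
    exact ⟨j, hj⟩
  haveI : Module.FinitePresentation A B' := Module.finitePresentation_of_finite A B'
  obtain ⟨n, v, u, huv⟩ := Module.Flat.exists_factorization_of_finitePresentation
    (IsScalarTower.toAlgHom A B' B).toLinearMap
  choose k b hkb using fun i : Fin n => hsurj (u (Finsupp.single i 1))
  set K := Finset.univ.sup k
  let w : (Fin n →₀ A) →ₗ[A] B' :=
    Finsupp.linearCombination A fun i => f ^ (K - k i) * b i
  have hw : ∀ y, algebraMap B' B (w y) = algebraMap B' B f ^ K * u y := by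
    intro y
    induction y using Finsupp.induction_linear with
    | zero => simp
    | add p q hp hq => rw [map_add, map_add, map_add, hp, hq, mul_add]
    | single i c =>
      rw [Finsupp.linearCombination_single, ← Finsupp.smul_single_one, map_smul u,
        mul_smul_comm]
      rw [Algebra.smul_def, Algebra.smul_def, map_mul, ← IsScalarTower.algebraMap_apply, map_mul,
        map_pow, ← hkb, ← mul_assoc (_ ^ (K - k i)), ← pow_add,
        Nat.sub_add_cancel (Finset.le_sup (Finset.mem_univ i))]
  have hd : ∀ x, algebraMap B' B (w (v x) - f ^ K * x) = 0 := by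
    intro x
    rw [map_sub, map_mul, map_pow, hw, sub_eq_zero]
    congr 1
    exact (LinearMap.congr_fun huv x).symm
  obtain ⟨T, hT⟩ := Module.Finite.fg_top (R := A) (M := B')
  choose j hj using fun x : T => hker _ (hd x)
  set N := Finset.univ.sup j
  refine ⟨f ^ N * f ^ K, fun h => hf ?_, n, v, (LinearMap.mulLeft A (f ^ N)).comp w, fun x => ?_⟩
  · rw [← pow_add, map_pow] at h
    exact Ideal.IsPrime.mem_of_pow_mem ‹_› _ h
  · have key : (LinearMap.mulLeft A (f ^ N)).comp ((w.comp v) - LinearMap.mulLeft A (f ^ K)) = 0 := by
      refine LinearMap.ext_on hT fun x hx => ?_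
      show f ^ N * (w (v x) - f ^ K * x) = 0
      have h := hj ⟨x, hx⟩
      rw [show f ^ N = f ^ (N - j ⟨x, hx⟩) * f ^ j ⟨x, hx⟩ by
        rw [← pow_add, Nat.sub_add_cancel (Finset.le_sup (Finset.mem_univ _))], mul_assoc, h, mul_zero]
    have h := LinearMap.congr_fun key x
    show f ^ N * w (v x) = f ^ N * f ^ K * x
    rw [mul_assoc, ← sub_eq_zero, ← mul_sub]
    exact h

theorem flat_omega [IsNoetherianRing A] [Module.Finite A B'] [Module.Flat A B]
    (hopen : IsOpenImmersion (Spec.map (CommRingCat.ofHom (algebraMap B' B)))) :
    Module.Flat A (B ⊗[B'] Disc.Omega A B') := by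
  classical
  haveI : Module.Flat B' B := by
    haveI := hopen
    exact RingHom.flat_algebraMap_iff.1 ((HasRingHomProperty.Spec_iff (P := @Flat) (φ := CommRingCat.ofHom (algebraMap B' B))).1 inferInstance)
  letI : Module A (Disc.Omega A B') := Module.compHom _ (algebraMap A B')
  haveI : IsScalarTower A B' (Disc.Omega A B') := IsScalarTower.of_algebraMap_smul fun _ _ => rfl
  have hsmul : ∀ (a : A) (φ : Disc.Omega A B') (x : B'), (a • φ).toLinearMap x = a * φ.toLinearMap x := by
    intro a φ x
    show φ.toLinearMap (algebraMap A B' a * x) = _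
    rw [← Algebra.smul_def, map_smul, smul_eq_mul]
  refine Module.Flat.iff_lTensor_injective.2 fun I _ => ?_
  set μ : Disc.Omega A B' ⊗[A] I →ₗ[B'] Disc.Omega A B' ⊗[A] A :=
    AlgebraTensorModule.lTensor B' (Disc.Omega A B') I.subtype
  -- the kernel of `μ` is killed by the factoring elements
  have hkill : ∀ s : B', FactorsThroughFree (A := A) s → ∀ z, μ z = 0 → s • z = 0 := by
    rintro s ⟨n, v, w, hvw⟩ z hz
    let a : Disc.Omega A B' →ₗ[A] (Fin n → A) :=
      { toFun := fun φ i => φ.toLinearMap (w (Finsupp.single i 1))
        map_add' := fun φ ψ => rfl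
        map_smul' := fun c φ => funext fun i => hsmul c φ _ }
    let b : (Fin n → A) →ₗ[A] Disc.Omega A B' :=
      { toFun := fun c => ⟨Finsupp.linearCombination A c ∘ₗ v⟩
        map_add' := fun c d => by
          refine Disc.Omega.ext (LinearMap.ext fun x => ?_)
          simp [Finsupp.linearCombination_apply, mul_add, Finsupp.sum_add]
        map_smul' := fun r c => by
          refine Disc.Omega.ext (LinearMap.ext fun x => ?_)
          rw [RingHom.id_apply, hsmul]
          simp [Finsupp.linearCombination_apply, Finsupp.mul_sum, mul_left_comm] }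
    have hba : ∀ φ, b (a φ) = s • φ := by
      intro φ
      refine Disc.Omega.ext (LinearMap.ext fun x => ?_)
      show Finsupp.linearCombination A _ (v x) = φ.toLinearMap (s * x)
      rw [← hvw]
      induction v x using Finsupp.induction_linear with
      | zero => simp
      | add p q hp hq => simp only [map_add, hp, hq]
      | single i c =>
        rw [Finsupp.linearCombination_single, ← Finsupp.smul_single_one i c, map_smul, map_smul]
        rfl
    have h1 : s • z = LinearMap.rTensor I b (LinearMap.rTensor I a z) := by
      rw [← LinearMap.rTensor_comp_apply]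
      clear hz
      induction z using TensorProduct.induction_on with
      | zero => simp
      | tmul φ i => rw [TensorProduct.smul_tmul', LinearMap.rTensor_tmul, LinearMap.comp_apply, hba]
      | add p q hp hq => rw [smul_add, map_add, hp, hq]
    have h2 : LinearMap.lTensor (Fin n → A) I.subtype (LinearMap.rTensor I a z) = 0 := by
      rw [← LinearMap.comp_apply, LinearMap.lTensor_comp_rTensor, ← LinearMap.rTensor_comp_lTensor,
        LinearMap.comp_apply, show LinearMap.lTensor (Disc.Omega A B') I.subtype z = 0 from hz, map_zero]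
    rw [h1, (map_eq_zero_iff _ (Module.Flat.lTensor_preserves_injective_linearMap I.subtype
      I.injective_subtype)).1 h2, map_zero]
  -- hence `μ` becomes injective after tensoring with `B`
  have hinj : Function.Injective (LinearMap.lTensor B μ) := by
    refine (injective_iff_map_eq_zero _).2 fun z hz => ?_
    have hex : Function.Exact (LinearMap.ker μ).subtype μ := LinearMap.exact_subtype_ker_map μ
    obtain ⟨y, rfl⟩ := ((Module.Flat.lTensor_exact B hex) z).1 hz
    have hJ : Ideal.span {c : B | ∃ s, FactorsThroughFree (A := A) s ∧ algebraMap B' B s = c} = ⊤ := by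
      by_contra hne
      obtain ⟨Q, hQ, hle⟩ := Ideal.exists_le_maximal _ hne
      obtain ⟨s, hsQ, hs⟩ := exists_factorsThroughFree (A := A) hopen Q
      exact hsQ (hle (Ideal.subset_span ⟨s, hs, rfl⟩))
    suffices y = 0 by rw [this, map_zero]
    have hmem : ∀ c : B, c ∈ Ideal.span {c : B | ∃ s, FactorsThroughFree (A := A) s ∧ algebraMap B' B s = c} →
        c • y = 0 := by
      intro c hc
      induction hc using Submodule.span_induction with
      | mem c hc =>
        obtain ⟨s, hs, rfl⟩ := hc
        clear hz
        induction y using TensorProduct.induction_on with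
        | zero => simp
        | tmul b k =>
          rw [algebraMap_smul, ← TensorProduct.tmul_smul]
          have : s • k = 0 := Subtype.ext (hkill s hs k k.2)
          rw [this, TensorProduct.tmul_zero]
        | add p q hp hq => rw [smul_add, hp, hq, add_zero]
      | zero => simp
      | add p q _ _ hp hq => rw [add_smul, hp, hq, add_zero]
      | smul r p _ hp => rw [smul_assoc, hp, smul_zero]
    simpa using hmem 1 (hJ ▸ Submodule.mem_top)
  have hcomm : ∀ z, AlgebraTensorModule.assoc A B' B B (Disc.Omega A B') A
      (LinearMap.lTensor (B ⊗[B'] Disc.Omega A B') I.subtype z) =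
      LinearMap.lTensor B μ (AlgebraTensorModule.assoc A B' B B (Disc.Omega A B') I z) := by
    intro z
    induction z using TensorProduct.induction_on with
    | zero => simp
    | tmul p i =>
      induction p using TensorProduct.induction_on with
      | zero => simp
      | tmul b φ => rfl
      | add p q hp hq => simp only [TensorProduct.add_tmul, map_add, hp, hq]
    | add p q hp hq => simp only [map_add, hp, hq]
  intro x y hxy
  apply (AlgebraTensorModule.assoc A B' B B (Disc.Omega A B') I).injective
  apply hinj
  rw [← hcomm, ← hcomm, hxy]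

end Groth.Agent.OmegaFlatLib
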